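import Mathlib
import Cfsg.Agent.Lib.Helper5.O5040P
import Cfsg.Agent.S0992

/-!
# Generic toolkit for excluding simple groups of a given order

Order-independent versions of the lemmas of `O5040A–P` (author: helper5).

* `sylow_count`: the Sylow number `k` of a Sylow subgroup of prime order
* `card_normalizer_eq_mul`, `burnside`: `|N| = |C| d`, `d ∣ p - 1`, and `d ≠ 1`
* `k3`, `k3_two`: fixed points on `G ⧸ N(P)` of an element of prime order of `C(P)`
* `not_isolated`, `false_of_fix_one`: Glauberman's `Z*` for simple groups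
* `exists_central_involution`, `centralizer_eq_normalizer`
* `sq_eq_one_of_card_sylow_two_four`, `two_dvd_card_centralizer_of_sq`
-/

set_option autoImplicit false

namespace Cfsg.Agent.Lib.Helper5.OrdKit

open MulAction
open Cfsg.Agent.Lib.Helper5.O5040

section general

variable {G : Type*} [Group G] [Finite G]

theorem ne_top_of_card_lt (K : Subgroup G) (hK : Nat.card K < Nat.card G) : K ≠ ⊤ := by
  intro h
  rw [h, Subgroup.card_top] at hK
  exact lt_irrefl _ hK

theorem index_eq_of_card (K : Subgroup G) (m j : ℕ) (hK : Nat.card K = m)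
    (hmj : m * j = Nat.card G) (hm : 0 < m) : K.index = j := by
  have h := K.card_mul_index
  rw [hK, ← hmj] at h
  exact Nat.eq_of_mul_eq_mul_left hm h

theorem card_of_index (K : Subgroup G) (m j : ℕ) (hidx : K.index = j)
    (hmj : m * j = Nat.card G) (hj : 0 < j) : Nat.card K = m := by
  have h := K.card_mul_index
  rw [hidx, ← hmj] at h
  exact Nat.eq_of_mul_eq_mul_right hj h

/-- a subgroup of the full `p`-power order is a Sylow subgroup -/
theorem exists_sylow_eq (p a m : ℕ) [hp : Fact p.Prime] (hG : Nat.card G = p ^ a * m)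
    (hm : ¬ p ∣ m) (S' : Subgroup G) (h : Nat.card S' = p ^ a) :
    ∃ S : Sylow p G, (S : Subgroup G) = S' := by
  obtain ⟨Q⟩ : Nonempty (Sylow p G) := inferInstance
  have hQ := Cfsg.Agent.Lib.Helper4.Sylow.card_sylow_of_card_eq hG hm Q
  have hc : Nat.card S' = p ^ (Nat.card G).factorization p := by
    rw [← Q.card_eq_multiplicity, h]; exact hQ.symm
  exact ⟨Sylow.ofCard S' hc, Sylow.coe_ofCard S' hc⟩

variable {p : ℕ} [hp : Fact p.Prime]

theorem card_sylow_prime (m : ℕ) (hn : Nat.card G = p * m) (hpm : ¬ p ∣ m) (P : Sylow p G) :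
    Nat.card (P : Subgroup G) = p := by
  have h : Nat.card G = p ^ 1 * m := by rw [hn, pow_one]
  simpa using Cfsg.Agent.Lib.Helper4.Sylow.card_sylow_of_card_eq h hpm P

theorem exists_gen (P : Sylow p G) (hP : Nat.card (P : Subgroup G) = p) :
    ∃ x : G, x ∈ (P : Subgroup G) ∧ x ≠ 1 ∧ x ^ p = 1 := by
  have hnt : (P : Subgroup G) ≠ ⊥ := by
    intro h
    rw [h, Subgroup.card_bot] at hP
    exact hp.out.one_lt.ne hP
  obtain ⟨⟨x, hx⟩, hx1⟩ := (Subgroup.ne_bot_iff_exists_ne_one).1 hnt
  refine ⟨x, hx, fun h1 => hx1 (Subtype.ext h1), ?_⟩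
  have := orderOf_dvd_natCard (⟨x, hx⟩ : (P : Subgroup G))
  rw [hP] at this
  have h5 : (⟨x, hx⟩ : (P : Subgroup G)) ^ p = 1 := orderOf_dvd_iff_pow_eq_one.1 this
  exact congrArg Subtype.val h5

theorem pow_eq_one_of_mem (P : Sylow p G) (hP : Nat.card (P : Subgroup G) = p) (a : G)
    (ha : a ∈ (P : Subgroup G)) : a ^ p = 1 := by
  have := orderOf_dvd_natCard (⟨a, ha⟩ : (P : Subgroup G))
  rw [hP] at this
  have h7 : (⟨a, ha⟩ : (P : Subgroup G)) ^ p = 1 := orderOf_dvd_iff_pow_eq_one.1 this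
  exact congrArg Subtype.val h7

theorem le_centralizer (P : Sylow p G) (hP : Nat.card (P : Subgroup G) = p) :
    (P : Subgroup G) ≤ Subgroup.centralizer ((P : Subgroup G) : Set G) := by
  have hcyc : IsCyclic (P : Subgroup G) := isCyclic_of_prime_card hP
  have : IsMulCommutative (P : Subgroup G) := IsCyclic.isMulCommutative
  exact Subgroup.le_centralizer (P : Subgroup G)

theorem dvd_card_centralizer (P : Sylow p G) (hP : Nat.card (P : Subgroup G) = p) :
    p ∣ Nat.card (Subgroup.centralizer ((P : Subgroup G) : Set G)) := by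
  have := Subgroup.card_dvd_of_le (le_centralizer P hP)
  rwa [hP] at this

/-- `|N(P)| = |C(P)| * d` with `d ∣ p - 1`. -/
theorem card_normalizer_eq_mul (P : Sylow p G) (hP : Nat.card (P : Subgroup G) = p) :
    ∃ d, d ∣ p - 1 ∧ Nat.card (Subgroup.normalizer ((P : Subgroup G) : Set G)) =
      Nat.card (Subgroup.centralizer ((P : Subgroup G) : Set G)) * d := by
  have hcyc : IsCyclic (P : Subgroup G) := isCyclic_of_prime_card hP
  have h1 := Cfsg.Agent.Lib.Helper4.Simple.relIndex_centralizer_normalizer_dvd (P : Subgroup G)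
  rw [hcyc.card_mulAut, hP, Nat.totient_prime hp.out] at h1
  refine ⟨_, h1, ?_⟩
  have hle : Subgroup.centralizer ((P : Subgroup G) : Set G) ≤
      Subgroup.normalizer ((P : Subgroup G) : Set G) := Subgroup.centralizer_le_normalizer _
  have := Subgroup.relIndex_mul_relIndex ⊥ _ _ bot_le hle
  rw [Subgroup.relIndex_bot_left, Subgroup.relIndex_bot_left] at this
  exact this.symm

end general

section simple

variable {G : Type*} [Group G] [Finite G] [IsSimpleGroup G]

/-- a central element of a simple group of non-prime order is trivial -/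
theorem eq_one_of_central (hnp : ¬ (Nat.card G).Prime) (k : G) (hk : ∀ g : G, g * k = k * g) :
    k = 1 := by
  have hmem : k ∈ Subgroup.center G := Subgroup.mem_center_iff.2 hk
  rcases (Subgroup.normal_of_characteristic (Subgroup.center G)).eq_bot_or_eq_top with hb | ht
  · rw [hb, Subgroup.mem_bot] at hmem
    exact hmem
  · exfalso
    have hcomm : ∀ a b : G, a * b = b * a := by
      intro a b
      have : b ∈ Subgroup.center G := by rw [ht]; trivial
      exact (Subgroup.mem_center_iff.1 this a)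
    let _ : CommGroup G := { (inferInstance : Group G) with mul_comm := hcomm }
    exact hnp (IsSimpleGroup.prime_card (α := G))

variable {p : ℕ} [hp : Fact p.Prime]

/-- the number of Sylow `p`-subgroups when `|G| = p * m`, `p ∤ m` -/
theorem sylow_count (m : ℕ) (hn : Nat.card G = p * m) (hpm : ¬ p ∣ m) (hm1 : 1 < m)
    (P : Sylow p G) :
    ∃ k, k ∣ m ∧ k % p = 1 ∧ k ≠ 1 ∧
      k * Nat.card (Subgroup.normalizer ((P : Subgroup G) : Set G)) = Nat.card G ∧
      (Subgroup.normalizer ((P : Subgroup G) : Set G)).index = k := by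
  have hP := card_sylow_prime m hn hpm P
  have h3 := Cfsg.Agent.Lib.Helper4.Sylow.card_sylow_mul_card_normalizer P
  have h4 : Nat.card (Sylow p G) ≡ 1 [MOD p] := card_sylow_modEq_one p G
  unfold Nat.ModEq at h4
  rw [Nat.mod_eq_of_lt hp.out.one_lt] at h4
  have hne1 : Nat.card (Sylow p G) ≠ 1 :=
    Cfsg.Agent.Lib.Helper4.Sylow.card_sylow_ne_one_of_simple P
      (by rw [show Nat.card P = Nat.card (P : Subgroup G) from rfl, hP]; exact hp.out.one_lt.ne')
      (by
        rw [show Nat.card P = Nat.card (P : Subgroup G) from rfl, hP, hn]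
        intro h
        have : p * 1 = p * m := by rw [mul_one]; exact h
        have := Nat.eq_of_mul_eq_mul_left hp.out.pos this
        omega)
  have hG' : Nat.card G = p ^ 1 * m := by rw [hn, pow_one]
  have hdvd : Nat.card (Sylow p G) ∣ m :=
    Cfsg.Agent.Lib.Helper4.Sylow.card_sylow_dvd_of_card_eq hG' hpm
  exact ⟨_, hdvd, h4, hne1, h3, P.card_eq_index_normalizer.symm⟩

/-- Burnside: `N(P) = C(P)` is impossible. -/
theorem burnside (P : Sylow p G) (hP : Nat.card (P : Subgroup G) = p) (hlt : p < Nat.card G)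
    (h : Nat.card (Subgroup.normalizer ((P : Subgroup G) : Set G)) =
      Nat.card (Subgroup.centralizer ((P : Subgroup G) : Set G))) : False := by
  have hCN : Subgroup.centralizer ((P : Subgroup G) : Set G) ≤
      Subgroup.normalizer ((P : Subgroup G) : Set G) := Subgroup.centralizer_le_normalizer _
  have heq : Subgroup.centralizer ((P : Subgroup G) : Set G) =
      Subgroup.normalizer ((P : Subgroup G) : Set G) :=
    Subgroup.eq_of_le_of_card_ge hCN (by rw [h])
  exact Cfsg.Agent.Lib.Helper4.Simple.false_of_simple_of_normalizer_le_centralizer P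
    (by rw [heq])
    (by rw [show Nat.card P = Nat.card (P : Subgroup G) from rfl, hP]; exact hp.out.one_lt.ne')
    (by rw [show Nat.card P = Nat.card (P : Subgroup G) from rfl, hP]; exact hlt.ne)

/-- `N(P) ≠ ⊤` -/
theorem normalizer_ne_top (P : Sylow p G) (hP : Nat.card (P : Subgroup G) = p)
    (hlt : p < Nat.card G) : Subgroup.normalizer ((P : Subgroup G) : Set G) ≠ ⊤ := by
  intro h
  have hn : (P : Subgroup G).Normal := Subgroup.normalizer_eq_top_iff.1 h
  rcases hn.eq_bot_or_eq_top with hb | ht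
  · rw [hb, Subgroup.card_bot] at hP
    exact hp.out.one_lt.ne hP
  · rw [ht, Subgroup.card_top] at hP
    omega

/-- **K3**: an element of prime order `q` of `C(P)` has `f` fixed points on `G ⧸ N(P)` with
`f ≡ 1 mod p`, `f ≡ n_p mod q`, `f < n_p`. -/
theorem k3 (P : Sylow p G) (hP : Nat.card (P : Subgroup G) = p) (hlt : p < Nat.card G)
    (q : ℕ) [hq : Fact q.Prime]
    (hqC : q ∣ Nat.card (Subgroup.centralizer ((P : Subgroup G) : Set G))) :
    ∃ f, f % p = 1 ∧
      f % q = (Subgroup.normalizer ((P : Subgroup G) : Set G)).index % q ∧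
      f < (Subgroup.normalizer ((P : Subgroup G) : Set G)).index := by
  obtain ⟨c, hcC, hcq⟩ := exists_orderOf_of_dvd _ q hqC
  obtain ⟨x, hxP, hx1, hxp⟩ := exists_gen P hP
  have hNtop := normalizer_ne_top P hP hlt
  set N := Subgroup.normalizer ((P : Subgroup G) : Set G) with hNdef
  have hcomm : c * x = x * c := ((Subgroup.mem_centralizer_iff.1 hcC) x hxP).symm
  have hfix1 : Nat.card (fixedBy (G ⧸ N) x) = 1 :=
    card_fixedBy_eq_one_of_le p P hP N le_rfl x hxP hx1
  have h1 := card_fixedBy_modEq_one (X := G ⧸ N) p x c hxp hcomm hfix1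
  have hcq' : c ^ q = 1 := by rw [← hcq]; exact pow_orderOf_eq_one c
  have h2 := card_fixedBy_modEq_card (X := G ⧸ N) q c hcq'
  have h3 := card_fixedBy_le (X := G ⧸ N) c
  have hc1 : c ≠ 1 := by
    intro h; rw [h, orderOf_one] at hcq; exact hq.out.one_lt.ne hcq
  have h4 : Nat.card (fixedBy (G ⧸ N) c) ≠ Nat.card (G ⧸ N) :=
    fun h => hc1 (eq_one_of_card_fixedBy_eq N hNtop c h)
  unfold Nat.ModEq at h1 h2
  rw [Nat.mod_eq_of_lt hp.out.one_lt] at h1
  have hidx : N.index = Nat.card (G ⧸ N) := rfl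
  refine ⟨_, h1, ?_, ?_⟩
  · rw [hidx]; exact h2
  · rw [hidx]; omega

/-- **K3 for involutions**: an involution of `C(P)` has `f` fixed points on `G ⧸ N(P)` with
`f ≡ 1 mod p`, `f ≡ n_p mod 4`, `f < n_p`. -/
theorem k3_two (P : Sylow p G) (hP : Nat.card (P : Subgroup G) = p) (hlt : p < Nat.card G)
    (h2G : 2 < Nat.card G)
    (hqC : 2 ∣ Nat.card (Subgroup.centralizer ((P : Subgroup G) : Set G))) :
    ∃ f, f % p = 1 ∧
      f % 4 = (Subgroup.normalizer ((P : Subgroup G) : Set G)).index % 4 ∧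
      f < (Subgroup.normalizer ((P : Subgroup G) : Set G)).index := by
  have hp2 : Fact (Nat.Prime 2) := ⟨by norm_num⟩
  obtain ⟨c, hcC, hcq⟩ := exists_orderOf_of_dvd _ 2 hqC
  obtain ⟨x, hxP, hx1, hxp⟩ := exists_gen P hP
  have hNtop := normalizer_ne_top P hP hlt
  set N := Subgroup.normalizer ((P : Subgroup G) : Set G) with hNdef
  have hcomm : c * x = x * c := ((Subgroup.mem_centralizer_iff.1 hcC) x hxP).symm
  have hfix1 : Nat.card (fixedBy (G ⧸ N) x) = 1 :=
    card_fixedBy_eq_one_of_le p P hP N le_rfl x hxP hx1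
  have h1 := card_fixedBy_modEq_one (X := G ⧸ N) p x c hxp hcomm hfix1
  have hcc : c * c = 1 := by rw [← pow_two, ← hcq]; exact pow_orderOf_eq_one c
  have h2 := card_mod_four_eq (X := G ⧸ N) h2G c hcc
  have h3 := card_fixedBy_le (X := G ⧸ N) c
  have hc1 : c ≠ 1 := by
    intro h; rw [h, orderOf_one] at hcq; norm_num at hcq
  have h4 : Nat.card (fixedBy (G ⧸ N) c) ≠ Nat.card (G ⧸ N) :=
    fun h => hc1 (eq_one_of_card_fixedBy_eq N hNtop c h)
  unfold Nat.ModEq at h1
  rw [Nat.mod_eq_of_lt hp.out.one_lt] at h1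
  have hidx : N.index = Nat.card (G ⧸ N) := rfl
  refine ⟨_, h1, ?_, ?_⟩
  · rw [hidx]; exact h2.symm
  · rw [hidx]; omega

/-- **Z\* in a simple group**: an involution is never isolated in a Sylow `2`-subgroup. -/
theorem not_isolated (hnp : ¬ (Nat.card G).Prime) [Fact (Nat.Prime 2)] (S : Sylow 2 G) (u : G)
    (hu : orderOf u = 2) (huS : u ∈ S) (hiso : ∀ g : G, g * u * g⁻¹ ∈ S → g * u * g⁻¹ = u) :
    False := by
  obtain ⟨N, hNn, hNodd, hNc⟩ := Cfsg.Agent.S0215.result S u hu huS hiso
  have hu1 : u ≠ 1 := by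
    intro h; rw [h, orderOf_one] at hu; norm_num at hu
  rcases hNn.eq_bot_or_eq_top with h | h
  · apply hu1
    apply eq_one_of_central hnp
    intro g
    have := hNc g
    rw [h, Subgroup.mem_bot] at this
    have h2 : u * g = g * u := by
      calc u * g = (u * g * u⁻¹ * g⁻¹) * g * u := by group
        _ = g * u := by rw [this, one_mul]
    exact h2.symm
  · rw [h, Subgroup.card_top] at hNodd
    have h2 : 2 ∣ Nat.card G := hu ▸ orderOf_dvd_natCard u
    rw [Nat.odd_iff] at hNodd
    omega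

/-- If the involution `c` has exactly one fixed point on `G ⧸ C(c)` (it commutes with no other
conjugate) and `C(c)` contains a Sylow `2`-subgroup of `G`, then `G` is not simple. -/
theorem false_of_fix_one (hnp : ¬ (Nat.card G).Prime) (a m k : ℕ)
    (hG : Nat.card G = 2 ^ a * m) (hm : ¬ 2 ∣ m) (c : G) (hc : orderOf c = 2)
    (hH : Nat.card (Subgroup.centralizer ({c} : Set G)) = 2 ^ a * k) (hk : ¬ 2 ∣ k)
    (hfix : Nat.card (fixedBy (G ⧸ Subgroup.centralizer ({c} : Set G)) c) = 1) : False := by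
  have hp2 : Fact (Nat.Prime 2) := ⟨by norm_num⟩
  set H := Subgroup.centralizer ({c} : Set G) with hHdef
  have hcH : c ∈ H := by
    rw [hHdef, Subgroup.mem_centralizer_singleton_iff]
  have hkey : ∀ g : G, g⁻¹ * c * g ∈ H → g ∈ H := by
    intro g hg
    obtain ⟨hsub, -⟩ := Nat.card_eq_one_iff_unique.1 hfix
    have h1 : ((g : G ⧸ H)) ∈ fixedBy (G ⧸ H) c := by
      rw [mem_fixedBy, Cfsg.Agent.Lib.Helper4.SylowPrime.smul_mk_eq_iff]; exact hg
    have h2 : (((1 : G) : G ⧸ H)) ∈ fixedBy (G ⧸ H) c := by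
      rw [mem_fixedBy, Cfsg.Agent.Lib.Helper4.SylowPrime.smul_mk_eq_iff]; simpa using hcH
    have h3 := hsub.elim ⟨_, h1⟩ ⟨_, h2⟩
    have h4 : (g : G ⧸ H) = ((1 : G) : G ⧸ H) := congrArg Subtype.val h3
    rw [QuotientGroup.eq] at h4
    simpa using H.inv_mem h4
  have hZ : IsPGroup 2 (Subgroup.zpowers c) := by
    apply IsPGroup.of_card (n := 1)
    rw [Nat.card_zpowers, hc, pow_one]
  obtain ⟨S', hcS', hS'H, hS'card⟩ := exists_le_card_pow 2 H a k hH hk
    (Subgroup.zpowers c) (by rw [Subgroup.zpowers_le]; exact hcH) hZ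
  obtain ⟨S, hS⟩ := exists_sylow_eq 2 a m hG hm S' hS'card
  apply not_isolated hnp S c hc
  · show c ∈ (S : Subgroup G)
    rw [hS]; exact hcS' (Subgroup.mem_zpowers c)
  · intro g hg
    have hg' : g * c * g⁻¹ ∈ H := by
      apply hS'H
      rw [← hS]; exact hg
    have h1 : g⁻¹ ∈ H := hkey g⁻¹ (by simpa using hg')
    have h2 : g ∈ H := by simpa using H.inv_mem h1
    rw [hHdef, Subgroup.mem_centralizer_singleton_iff] at h2
    rw [h2]; group

/-- the number of fixed points of `t ≠ 1` on `G ⧸ C(t)` is less than `|C(t)|` -/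
theorem card_fixedBy_lt_card_centralizer {G : Type*} [Group G] [Finite G] (t : G) (ht : t ≠ 1) :
    Nat.card (fixedBy (G ⧸ Subgroup.centralizer ({t} : Set G)) t) <
      Nat.card (Subgroup.centralizer ({t} : Set G)) := by
  classical
  set H := Subgroup.centralizer ({t} : Set G) with hHdef
  have hmem : ∀ g : G, g ∈ H ↔ g * t = t * g := fun g => Subgroup.mem_centralizer_singleton_iff
  -- the map `gH ↦ g t g⁻¹`
  have hwd : ∀ a b : G, (QuotientGroup.leftRel H) a b → a * t * a⁻¹ = b * t * b⁻¹ := by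
    intro a b hab
    rw [QuotientGroup.leftRel_apply, hmem] at hab
    calc a * t * a⁻¹ = a * (t * (a⁻¹ * b)) * b⁻¹ := by group
      _ = a * ((a⁻¹ * b) * t) * b⁻¹ := by rw [hab]
      _ = b * t * b⁻¹ := by group
  let φ : G ⧸ H → G := Quotient.lift (fun g : G => g * t * g⁻¹) hwd
  have hφ : ∀ g : G, φ (g : G ⧸ H) = g * t * g⁻¹ := fun g => rfl
  have hφinj : Function.Injective φ := by
    intro a b hab
    obtain ⟨a, rfl⟩ := QuotientGroup.mk_surjective a
    obtain ⟨b, rfl⟩ := QuotientGroup.mk_surjective b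
    rw [hφ, hφ] at hab
    rw [QuotientGroup.eq, hmem]
    calc a⁻¹ * b * t = a⁻¹ * (b * t * b⁻¹) * b := by group
      _ = a⁻¹ * (a * t * a⁻¹) * b := by rw [hab]
      _ = t * (a⁻¹ * b) := by group
  -- fixed points map into `H ∖ {1}`
  have hmaps : ∀ ω : fixedBy (G ⧸ H) t, φ ω ∈ H ∧ φ ω ≠ 1 := by
    rintro ⟨ω, hω⟩
    obtain ⟨g, rfl⟩ := QuotientGroup.mk_surjective ω
    rw [mem_fixedBy, Cfsg.Agent.Lib.Helper4.SylowPrime.smul_mk_eq_iff, hmem] at hω
    constructor
    · show φ (g : G ⧸ H) ∈ H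
      rw [hφ, hmem]
      calc g * t * g⁻¹ * t = g * (t * (g⁻¹ * t * g)) * g⁻¹ := by group
        _ = g * ((g⁻¹ * t * g) * t) * g⁻¹ := by rw [hω]
        _ = t * (g * t * g⁻¹) := by group
    · show φ (g : G ⧸ H) ≠ 1
      rw [hφ]
      intro h
      apply ht
      have : t = g⁻¹ * (g * t * g⁻¹) * g := by group
      rw [this, h]; group
  have hle : Nat.card (fixedBy (G ⧸ H) t) ≤ Nat.card {h : H // h ≠ 1} := by
    apply Nat.card_le_card_of_injective
      (fun ω : fixedBy (G ⧸ H) t => (⟨⟨φ ω, (hmaps ω).1⟩, fun h => (hmaps ω).2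
        (congrArg Subtype.val h)⟩ : {h : H // h ≠ 1}))
    intro a b hab
    apply Subtype.ext
    apply hφinj
    have := congrArg (fun z : {h : H // h ≠ 1} => ((z : H) : G)) hab
    exact this
  have hlt : Nat.card {h : H // h ≠ 1} < Nat.card H := by
    have : Fintype H := Fintype.ofFinite H
    rw [Nat.card_eq_fintype_card, Nat.card_eq_fintype_card]
    exact Fintype.card_subtype_lt (x := (1 : H)) (by simp)
  omega

end simple

end Cfsg.Agent.Lib.Helper5.OrdKit
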