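import Mathlib
import Cfsg.Agent.Lib.Helper4.SylowPrime
import Cfsg.Agent.Lib.Helper5.Ord2.Kit

/-!
# Counting the elements whose order is divisible by `p` (Sylow `p`-subgroups of order `p`)

If every Sylow `p`-subgroup `Q` of `G` has order `p` and `p * k ≤ |C(Q)|`, then `G` has at least
`n_p * ((p - 1) * k)` elements of order divisible by `p`: `C(Q) = Q × K(Q)` (Schur–Zassenhaus), and
the products `c x`, `x ∈ Q ∖ 1`, `c ∈ K(Q)`, are pairwise different.
-/

set_option autoImplicit false
set_option linter.style.haveILetI false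

namespace Cfsg.Agent.Lib.Helper5.OrdCount

open Cfsg.Agent.Lib.Helper5.OrdKit

variable {G : Type*} [Group G] [Finite G]

/-- a complement of `Q` in `C(Q)` -/
theorem exists_compl (p : ℕ) [hp : Fact p.Prime] (Q : Sylow p G)
    (hQ : Nat.card (Q : Subgroup G) = p) :
    ∃ K : Subgroup G, K ≤ Subgroup.centralizer ((Q : Subgroup G) : Set G) ∧
      K ⊓ (Q : Subgroup G) = ⊥ ∧
      p * Nat.card K = Nat.card (Subgroup.centralizer ((Q : Subgroup G) : Set G)) ∧
      ¬ p ∣ Nat.card K := by
  obtain ⟨C, hC⟩ : ∃ C : Subgroup G, C = Subgroup.centralizer ((Q : Subgroup G) : Set G) :=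
    ⟨_, rfl⟩
  have hQC : (Q : Subgroup G) ≤ C := by rw [hC]; exact le_centralizer Q hQ
  obtain ⟨N, hN⟩ : ∃ N : Subgroup C, N = (Q : Subgroup G).subgroupOf C := ⟨_, rfl⟩
  have hNcard : Nat.card N = p := by
    rw [hN]
    exact (Nat.card_congr (Subgroup.subgroupOfEquivOfLe hQC).toEquiv).trans hQ
  haveI hNn : N.Normal := by
    constructor
    intro n hn g
    rw [hN, Subgroup.mem_subgroupOf] at hn ⊢
    have hg : (g : G) ∈ Subgroup.centralizer ((Q : Subgroup G) : Set G) := by
      rw [← hC]; exact g.2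
    have hcomm : (n : G) * (g : G) = (g : G) * (n : G) :=
      Subgroup.mem_centralizer_iff.1 hg (n : G) hn
    have : ((g * n * g⁻¹ : C) : G) = (n : G) := by
      simp only [Subgroup.coe_mul, Subgroup.coe_inv]
      rw [← hcomm, mul_inv_cancel_right]
    rw [this]; exact hn
  -- `p² ∤ |G|`
  have hp2 : ¬ p ^ 2 ∣ Nat.card G := by
    intro h
    obtain ⟨H, hH⟩ := Sylow.exists_subgroup_card_pow_prime p h
    have hHp : IsPGroup p H := IsPGroup.of_card hH
    obtain ⟨Q', hQ'⟩ := hHp.exists_le_sylow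
    have h1 := Subgroup.card_dvd_of_le hQ'
    have hQ'c : Nat.card (Q' : Subgroup G) = p :=
      (Q'.card_eq_multiplicity).trans (Q.card_eq_multiplicity.symm.trans hQ)
    rw [hH, hQ'c] at h1
    have : p ^ 2 ≤ p := Nat.le_of_dvd hp.out.pos h1
    have h2 := hp.out.one_lt
    nlinarith
  have hcop : Nat.Coprime (Nat.card N) N.index := by
    rw [hNcard]
    rw [Nat.Prime.coprime_iff_not_dvd hp.out]
    intro h
    apply hp2
    have h3 : p ^ 2 ∣ Nat.card C := by
      rw [← N.card_mul_index, hNcard, pow_two]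
      exact Nat.mul_dvd_mul_left p h
    exact h3.trans (Subgroup.card_subgroup_dvd_card C)
  obtain ⟨H, hH⟩ := Subgroup.exists_right_complement'_of_coprime hcop
  have hcard := hH.card_mul_card
  have hdisj := hH.disjoint
  refine ⟨H.map C.subtype, ?_, ?_, ?_, ?_⟩
  · rw [← hC]; exact Subgroup.map_subtype_le H
  · rw [eq_bot_iff]
    intro g hg
    rw [Subgroup.mem_inf] at hg
    obtain ⟨⟨h, hhH, rfl⟩, hgQ⟩ := hg
    have hhN : h ∈ N := by rw [hN, Subgroup.mem_subgroupOf]; exact hgQ
    have : h ∈ N ⊓ H := Subgroup.mem_inf.2 ⟨hhN, hhH⟩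
    rw [hdisj.eq_bot, Subgroup.mem_bot] at this
    rw [Subgroup.mem_bot, this]; rfl
  · rw [Subgroup.card_map_of_injective C.subtype_injective, ← hC, ← hcard, hNcard]
  · rw [Subgroup.card_map_of_injective C.subtype_injective]
    intro h
    apply hp2
    have h3 : p ^ 2 ∣ Nat.card C := by
      rw [← hcard, hNcard, pow_two]
      exact Nat.mul_dvd_mul_left p h
    exact h3.trans (Subgroup.card_subgroup_dvd_card C)

/-- the number of elements of order divisible by `p` -/
theorem card_dvd_orderOf_ge (p : ℕ) [hp : Fact p.Prime]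
    (hS : ∀ Q : Sylow p G, Nat.card (Q : Subgroup G) = p) (k : ℕ)
    (hk : ∀ Q : Sylow p G, p * k ≤ Nat.card (Subgroup.centralizer ((Q : Subgroup G) : Set G))) :
    Nat.card (Sylow p G) * ((p - 1) * k) ≤ Nat.card {g : G // p ∣ orderOf g} := by
  classical
  have : Fintype (Sylow p G) := Fintype.ofFinite _
  choose K hKC hKQ hKcard hKp using fun Q : Sylow p G => exists_compl p Q (hS Q)
  have hKk : ∀ Q, k ≤ Nat.card (K Q) := by
    intro Q
    have := hk Q
    rw [← hKcard Q] at this
    exact Nat.le_of_mul_le_mul_left this hp.out.pos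
  have hord : ∀ (Q : Sylow p G) (x : (Q : Subgroup G)), x ≠ 1 → orderOf (x : G) = p := by
    intro Q x hx
    have h1 : orderOf x ∣ p := by
      have := orderOf_dvd_natCard x
      rwa [hS Q] at this
    rw [Subgroup.orderOf_coe]
    rcases (Nat.dvd_prime hp.out).1 h1 with h | h
    · exact absurd (orderOf_eq_one_iff.1 h) hx
    · exact h
  have hcomm : ∀ (Q : Sylow p G) (x : (Q : Subgroup G)) (c : K Q), (c : G) * (x : G) = x * c := by
    intro Q x c
    exact (Subgroup.mem_centralizer_iff.1 (hKC Q c.2) (x : G) x.2).symm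
  have hpow : ∀ (Q : Sylow p G) (x : (Q : Subgroup G)) (c : K Q) (m : ℕ),
      ((c : G) * (x : G)) ^ m = (c : G) ^ m * (x : G) ^ m := by
    intro Q x c m
    exact (show Commute (c : G) (x : G) from hcomm Q x c).mul_pow m
  have hdvd : ∀ (Q : Sylow p G) (x : (Q : Subgroup G)) (c : K Q), x ≠ 1 →
      p ∣ orderOf ((c : G) * (x : G)) := by
    intro Q x c hx
    have h1 := pow_orderOf_eq_one ((c : G) * (x : G))
    rw [hpow] at h1
    have h2 : (x : G) ^ orderOf ((c : G) * (x : G)) ∈ K Q ⊓ (Q : Subgroup G) := by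
      rw [Subgroup.mem_inf]
      refine ⟨?_, (Q : Subgroup G).pow_mem x.2 _⟩
      have : (x : G) ^ orderOf ((c : G) * (x : G)) = ((c : G) ^ orderOf ((c : G) * (x : G)))⁻¹ :=
        eq_inv_of_mul_eq_one_right h1
      rw [this]
      exact (K Q).inv_mem ((K Q).pow_mem c.2 _)
    rw [hKQ Q, Subgroup.mem_bot] at h2
    have h3 := orderOf_dvd_of_pow_eq_one h2
    rwa [hord Q x hx] at h3
  let f : (Σ Q : Sylow p G, {x : (Q : Subgroup G) // x ≠ 1} × K Q) → {g : G // p ∣ orderOf g} :=
    fun a => ⟨(a.2.2 : G) * (a.2.1.1 : G), hdvd a.1 a.2.1.1 a.2.2 a.2.1.2⟩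
  have hf : Function.Injective f := by
    rintro ⟨Q, ⟨x, hx⟩, c⟩ ⟨Q', ⟨x', hx'⟩, c'⟩ h
    have h1 : (c : G) * (x : G) = (c' : G) * (x' : G) := congrArg Subtype.val h
    have hQ : Q = Q' := by
      set a := Nat.card (K Q) * Nat.card (K Q') with ha
      have e1 : ((c : G) * (x : G)) ^ a = (x : G) ^ a := by
        rw [hpow]
        have : (c : G) ^ a = 1 := by
          rw [ha, pow_mul]
          have : (c : G) ^ Nat.card (K Q) = 1 := by
            have := pow_card_eq_one' (G := K Q) (x := c)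
            exact congrArg Subtype.val this
          rw [this, one_pow]
        rw [this, one_mul]
      have e2 : ((c' : G) * (x' : G)) ^ a = (x' : G) ^ a := by
        rw [hpow]
        have : (c' : G) ^ a = 1 := by
          rw [ha, mul_comm, pow_mul]
          have : (c' : G) ^ Nat.card (K Q') = 1 := by
            have := pow_card_eq_one' (G := K Q') (x := c')
            exact congrArg Subtype.val this
          rw [this, one_pow]
        rw [this, one_mul]
      have e3 : (x : G) ^ a = (x' : G) ^ a := by rw [← e1, ← e2, h1]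
      have hane : (x : G) ^ a ≠ 1 := by
        intro h0
        have := orderOf_dvd_of_pow_eq_one h0
        rw [hord Q x hx, ha] at this
        rcases (Nat.Prime.dvd_mul hp.out).1 this with h | h
        · exact hKp Q h
        · exact hKp Q' h
      apply Cfsg.Agent.Lib.Helper4.SylowPrime.sylow_eq_of_mem Q Q' (hS Q) ((x : G) ^ a) hane
      · exact (Q : Subgroup G).pow_mem x.2 _
      · rw [e3]; exact (Q' : Subgroup G).pow_mem x'.2 _
    subst hQ
    have h2 : (c' : G)⁻¹ * (c : G) = (x' : G) * (x : G)⁻¹ := by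
      calc (c' : G)⁻¹ * (c : G) = (c' : G)⁻¹ * ((c : G) * (x : G)) * (x : G)⁻¹ := by group
        _ = (c' : G)⁻¹ * ((c' : G) * (x' : G)) * (x : G)⁻¹ := by rw [h1]
        _ = (x' : G) * (x : G)⁻¹ := by group
    have h3 : (c' : G)⁻¹ * (c : G) ∈ K Q ⊓ (Q : Subgroup G) := by
      rw [Subgroup.mem_inf]
      refine ⟨(K Q).mul_mem ((K Q).inv_mem c'.2) c.2, ?_⟩
      rw [h2]
      exact (Q : Subgroup G).mul_mem x'.2 ((Q : Subgroup G).inv_mem x.2)
    rw [hKQ Q, Subgroup.mem_bot] at h3
    have hcc : (c : G) = (c' : G) := by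
      calc (c : G) = (c' : G) * ((c' : G)⁻¹ * (c : G)) := by group
        _ = (c' : G) := by rw [h3, mul_one]
    have hxx : (x : G) = (x' : G) := by
      rw [hcc] at h1
      exact mul_left_cancel h1
    have hc : c = c' := Subtype.ext hcc
    have hx2 : x = x' := Subtype.ext hxx
    subst hc
    subst hx2
    rfl
  have hcard := Nat.card_le_card_of_injective f hf
  have hfib : ∀ Q : Sylow p G, Nat.card {x : (Q : Subgroup G) // x ≠ 1} = p - 1 := by
    intro Q
    have : Fintype (Q : Subgroup G) := Fintype.ofFinite _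
    rw [Nat.card_eq_fintype_card, Fintype.card_subtype_compl, Fintype.card_subtype_eq,
      ← Nat.card_eq_fintype_card, hS Q]
  rw [Nat.card_sigma] at hcard
  have hsum : ∑ Q : Sylow p G, (p - 1) * k ≤
      ∑ Q : Sylow p G, Nat.card ({x : (Q : Subgroup G) // x ≠ 1} × K Q) := by
    apply Finset.sum_le_sum
    intro Q _
    rw [Nat.card_prod, hfib Q]
    exact Nat.mul_le_mul_left _ (hKk Q)
  simp only [Finset.sum_const, Finset.card_univ, smul_eq_mul] at hsum
  rw [← Nat.card_eq_fintype_card] at hsum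
  exact hsum.trans hcard

/-- no element has order divisible by `p q` if `q ∤ |C(Q)|` for the Sylow `p`-subgroups `Q` -/
theorem not_dvd_of_not_dvd_centralizer (p q : ℕ) [hp : Fact p.Prime] [hq : Fact q.Prime]
    (hS : ∀ Q : Sylow p G, Nat.card (Q : Subgroup G) = p)
    (hC : ∀ Q : Sylow p G, ¬ q ∣ Nat.card (Subgroup.centralizer ((Q : Subgroup G) : Set G)))
    (g : G) (hgp : p ∣ orderOf g) (hgq : q ∣ orderOf g) : False := by
  have hg0 : orderOf g ≠ 0 := (orderOf_pos g).ne'
  have hx : orderOf (g ^ (orderOf g / p)) = p := orderOf_pow_orderOf_div hg0 hgp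
  have hy : orderOf (g ^ (orderOf g / q)) = q := orderOf_pow_orderOf_div hg0 hgq
  have hZ : IsPGroup p (Subgroup.zpowers (g ^ (orderOf g / p))) :=
    IsPGroup.of_card (n := 1) (by rw [Nat.card_zpowers, hx, pow_one])
  obtain ⟨Q, hQ⟩ := hZ.exists_le_sylow
  have hQeq : Subgroup.zpowers (g ^ (orderOf g / p)) = (Q : Subgroup G) :=
    Subgroup.eq_of_le_of_card_ge hQ (by rw [hS Q, Nat.card_zpowers, hx])
  have hyC : g ^ (orderOf g / q) ∈ Subgroup.centralizer ((Q : Subgroup G) : Set G) := by
    rw [Subgroup.mem_centralizer_iff]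
    intro h hh
    rw [SetLike.mem_coe, ← hQeq] at hh
    obtain ⟨j, rfl⟩ := Subgroup.mem_zpowers_iff.1 hh
    exact ((((Commute.refl g).pow_left _).zpow_left j).pow_right _).eq
  apply hC Q
  rw [← hy]
  have := orderOf_dvd_natCard
    (⟨_, hyC⟩ : Subgroup.centralizer ((Q : Subgroup G) : Set G))
  rwa [Subgroup.orderOf_mk] at this

/-- three pairwise disjoint families of elements -/
theorem card_three_le (p q r : ℕ)
    (hpq : ∀ g : G, p ∣ orderOf g → q ∣ orderOf g → False)
    (hpr : ∀ g : G, p ∣ orderOf g → r ∣ orderOf g → False)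
    (hqr : ∀ g : G, q ∣ orderOf g → r ∣ orderOf g → False) :
    Nat.card {g : G // p ∣ orderOf g} + Nat.card {g : G // q ∣ orderOf g} +
      Nat.card {g : G // r ∣ orderOf g} ≤ Nat.card G := by
  let f : ({g : G // p ∣ orderOf g} ⊕ {g : G // q ∣ orderOf g}) ⊕ {g : G // r ∣ orderOf g} → G :=
    fun a => Sum.elim (Sum.elim (fun x => x.1) (fun x => x.1)) (fun x => x.1) a
  have hf : Function.Injective f := by
    rintro ((⟨x, hx⟩ | ⟨x, hx⟩) | ⟨x, hx⟩) ((⟨y, hy⟩ | ⟨y, hy⟩) | ⟨y, hy⟩) h <;>
      simp only [f, Sum.elim_inl, Sum.elim_inr] at h <;> subst h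
    · rfl
    · exact (hpq _ hx hy).elim
    · exact (hpr _ hx hy).elim
    · exact (hpq _ hy hx).elim
    · rfl
    · exact (hqr _ hx hy).elim
    · exact (hpr _ hy hx).elim
    · exact (hqr _ hy hx).elim
    · rfl
  have := Nat.card_le_card_of_injective f hf
  rwa [Nat.card_sum, Nat.card_sum] at this

end Cfsg.Agent.Lib.Helper5.OrdCount
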