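import Mathlib
import Cfsg.Agent.Lib.Helper5.Ord2.Kit

/-!
# Generic toolkit, part 2: central involutions of `N(P)`, Klein four Sylow `2`-subgroups

(author: helper5)
-/

set_option autoImplicit false
set_option maxHeartbeats 800000

namespace Cfsg.Agent.Lib.Helper5.OrdKit

open MulAction
open Cfsg.Agent.Lib.Helper5.O5040

section general

variable {G : Type*} [Group G] [Finite G] {p : ℕ} [hp : Fact p.Prime]

/-- If `|N(P)| = 2^b * p` and `|C(P)|` is even, there is an involution `u ∈ C(P)` central in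
`N(P)`. -/
theorem exists_central_involution (hp2 : p ≠ 2) (b : ℕ) (P : Sylow p G)
    (hP : Nat.card (P : Subgroup G) = p)
    (hN : Nat.card (Subgroup.normalizer ((P : Subgroup G) : Set G)) = 2 ^ b * p)
    (hC2 : 2 ∣ Nat.card (Subgroup.centralizer ((P : Subgroup G) : Set G))) :
    ∃ u : G, orderOf u = 2 ∧ u ∈ Subgroup.centralizer ((P : Subgroup G) : Set G) ∧
      Subgroup.normalizer ((P : Subgroup G) : Set G) ≤ Subgroup.centralizer ({u} : Set G) := by
  have h2p : Fact (Nat.Prime 2) := ⟨by norm_num⟩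
  have hnd : ¬ 2 ∣ p := by
    intro h
    exact hp2 ((Nat.prime_dvd_prime_iff_eq Nat.prime_two hp.out).1 h).symm
  set N := Subgroup.normalizer ((P : Subgroup G) : Set G) with hNdef
  set C := Subgroup.centralizer ((P : Subgroup G) : Set G) with hCdef
  have hCN : C ≤ N := Subgroup.centralizer_le_normalizer _
  obtain ⟨d, -, hNC⟩ := card_normalizer_eq_mul P hP
  rw [← hNdef, ← hCdef] at hNC
  have hpC : p ∣ Nat.card C := dvd_card_centralizer P hP
  have hCpos : 0 < Nat.card C := Nat.card_pos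
  have h2b : 0 < 2 ^ b := by positivity
  obtain ⟨T, -, hTN, hTcard⟩ := exists_le_card_pow 2 N b p hN hnd ⊥ bot_le IsPGroup.of_bot
  have hrel : (T ⊓ C).relIndex N ≤ T.relIndex N * C.relIndex N := Subgroup.relIndex_inf_le
  have hTrel : T.relIndex N = p := by
    have := Subgroup.relIndex_mul_relIndex ⊥ T N bot_le hTN
    rw [Subgroup.relIndex_bot_left, Subgroup.relIndex_bot_left, hTcard, hN] at this
    exact Nat.eq_of_mul_eq_mul_left h2b this
  have hCrel : C.relIndex N = d := by
    have := Subgroup.relIndex_mul_relIndex ⊥ C N bot_le hCN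
    rw [Subgroup.relIndex_bot_left, Subgroup.relIndex_bot_left] at this
    have h2 : Nat.card C * C.relIndex N = Nat.card C * d := by rw [this, hNC]
    exact Nat.eq_of_mul_eq_mul_left hCpos h2
  have hVcard : Nat.card (T ⊓ C : Subgroup G) * (T ⊓ C).relIndex N = Nat.card N := by
    have := Subgroup.relIndex_mul_relIndex ⊥ (T ⊓ C) N bot_le (le_trans inf_le_left hTN)
    rw [Subgroup.relIndex_bot_left, Subgroup.relIndex_bot_left] at this
    exact this
  have hVne : (T ⊓ C : Subgroup G) ≠ ⊥ := by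
    intro h
    have hc1 : Nat.card (T ⊓ C : Subgroup G) = 1 := by rw [h, Subgroup.card_bot]
    rw [hc1, one_mul] at hVcard
    rw [hVcard, hTrel, hCrel, hN] at hrel
    -- `2 ^ b * p ≤ p * d`
    have h1 : 2 ^ b ≤ d := by
      have : p * 2 ^ b ≤ p * d := by rw [mul_comm p (2 ^ b)]; exact hrel
      exact Nat.le_of_mul_le_mul_left this hp.out.pos
    have h2 : Nat.card C * 2 ^ b ≤ Nat.card C * d := Nat.mul_le_mul_left _ h1
    rw [← hNC, hN, mul_comm (2 ^ b) p] at h2
    have h3 : Nat.card C ≤ p := Nat.le_of_mul_le_mul_right h2 h2b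
    have h4 : p ≤ Nat.card C := Nat.le_of_dvd hCpos hpC
    have h5 : Nat.card C = p := le_antisymm h3 h4
    rw [h5] at hC2
    exact hnd hC2
  have hTp : IsPGroup 2 T := IsPGroup.of_card (n := b) hTcard
  have hVn : ((T ⊓ C).subgroupOf T).Normal := by
    constructor
    rintro ⟨v, hvT⟩ hv ⟨t, htT⟩
    rw [Subgroup.mem_subgroupOf] at hv ⊢
    refine ⟨T.mul_mem (T.mul_mem htT hvT) (T.inv_mem htT), ?_⟩
    exact conj_mem_centralizer (P : Subgroup G) t v (hTN htT) hv.2
  have hVne' : (T ⊓ C).subgroupOf T ≠ ⊥ := by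
    intro h
    apply hVne
    rw [Subgroup.subgroupOf_eq_bot] at h
    rw [eq_bot_iff]
    intro g hg
    have : g ∈ (T ⊓ C) ⊓ T := ⟨hg, hg.1⟩
    rw [h.eq_bot] at this
    exact this
  obtain ⟨v, hvV, hv1, hvc⟩ := exists_mem_center_of_normal 2 hTp ((T ⊓ C).subgroupOf T) hVne'
  obtain ⟨k, hk⟩ := (IsPGroup.iff_orderOf.1 hTp) v
  obtain ⟨j, hj⟩ := exists_pow_orderOf_two v k hk hv1
  have hvjC : ((v ^ j : T) : G) ∈ C := by
    have : v ^ j ∈ (T ⊓ C).subgroupOf T := Subgroup.pow_mem _ hvV j
    exact (Subgroup.mem_subgroupOf.1 this).2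
  refine ⟨((v ^ j : T) : G), ?_, hvjC, ?_⟩
  · rw [Subgroup.orderOf_coe]; exact hj
  · have hsup : (P : Subgroup G) ⊔ T ≤ N := sup_le Subgroup.le_normalizer hTN
    have h5 : p ∣ Nat.card ((P : Subgroup G) ⊔ T : Subgroup G) := by
      have := Subgroup.card_dvd_of_le (le_sup_left : (P : Subgroup G) ≤ (P : Subgroup G) ⊔ T)
      rwa [hP] at this
    have h8 : 2 ^ b ∣ Nat.card ((P : Subgroup G) ⊔ T : Subgroup G) := by
      have := Subgroup.card_dvd_of_le (le_sup_right : T ≤ (P : Subgroup G) ⊔ T)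
      rwa [hTcard] at this
    have hcop : Nat.Coprime (2 ^ b) p := by
      apply Nat.Coprime.pow_left
      exact (Nat.coprime_primes Nat.prime_two hp.out).2 (Ne.symm hp2)
    have hdvd : 2 ^ b * p ∣ Nat.card ((P : Subgroup G) ⊔ T : Subgroup G) :=
      Nat.Coprime.mul_dvd_of_dvd_of_dvd hcop h8 h5
    have hpos : 0 < Nat.card ((P : Subgroup G) ⊔ T : Subgroup G) := Nat.card_pos
    have heq : (P : Subgroup G) ⊔ T = N :=
      Subgroup.eq_of_le_of_card_ge hsup (by rw [hN]; exact Nat.le_of_dvd hpos hdvd)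
    rw [← heq, sup_le_iff]
    constructor
    · intro a ha
      rw [Subgroup.mem_centralizer_singleton_iff]
      exact (Subgroup.mem_centralizer_iff.1 hvjC a ha)
    · intro t ht
      rw [Subgroup.mem_centralizer_singleton_iff]
      have hcomm : ∀ t' : T, t' * v ^ j = v ^ j * t' := by
        intro t'
        exact ((Commute.pow_right (show Commute t' v from hvc t') j)).eq
      exact congrArg Subtype.val (hcomm ⟨t, ht⟩)

/-- If all elements of a subgroup `T ≤ N(P)` of order `4` square to `1`, then `|C(P)|` is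
even (`Aut(P)` is cyclic). -/
theorem two_dvd_card_centralizer_of_sq (P : Sylow p G) (hP : Nat.card (P : Subgroup G) = p)
    (T : Subgroup G) (hTN : T ≤ Subgroup.normalizer ((P : Subgroup G) : Set G))
    (hT4 : Nat.card T = 4) (hsq : ∀ t ∈ T, t * t = 1) :
    2 ∣ Nat.card (Subgroup.centralizer ((P : Subgroup G) : Set G)) := by
  by_contra hodd
  have hcyc : IsCyclic (P : Subgroup G) := isCyclic_of_prime_card hP
  have hprime : Fact (Nat.Prime (Nat.card (P : Subgroup G))) := ⟨by rw [hP]; exact hp.out⟩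
  have hcycZ : IsCyclic (ZMod (Nat.card (P : Subgroup G)))ˣ := inferInstance
  have hcycA : IsCyclic (MulAut (P : Subgroup G)) :=
    isCyclic_of_surjective (IsCyclic.mulAutMulEquiv (P : Subgroup G)).symm
      (IsCyclic.mulAutMulEquiv (P : Subgroup G)).symm.surjective
  set C := Subgroup.centralizer ((P : Subgroup G) : Set G) with hCdef
  let ψ : T →* MulAut (P : Subgroup G) :=
    (P : Subgroup G).normalizerMonoidHom.comp (Subgroup.inclusion hTN)
  have hker : ∀ t : T, t ∈ ψ.ker ↔ (t : G) ∈ C := by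
    intro t
    rw [MonoidHom.mem_ker]
    show (P : Subgroup G).normalizerMonoidHom (Subgroup.inclusion hTN t) = 1 ↔ _
    rw [← MonoidHom.mem_ker, Subgroup.normalizerMonoidHom_ker, Subgroup.mem_subgroupOf]
    rfl
  have hVle : Nat.card (T ⊓ C : Subgroup G) = 1 := by
    have h1 : Nat.card (T ⊓ C : Subgroup G) ∣ 4 := hT4 ▸ Subgroup.card_dvd_of_le inf_le_left
    have h2 : Nat.card (T ⊓ C : Subgroup G) ∣ Nat.card C := Subgroup.card_dvd_of_le inf_le_right
    have h3 : ¬ 2 ∣ Nat.card (T ⊓ C : Subgroup G) := fun h => hodd (dvd_trans h h2)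
    have hle : Nat.card (T ⊓ C : Subgroup G) ≤ 4 := Nat.le_of_dvd (by norm_num) h1
    generalize Nat.card (T ⊓ C : Subgroup G) = v at *
    interval_cases v <;> first | rfl | omega | (exfalso; revert h1; decide)
  have hkerle : Nat.card ψ.ker ≤ Nat.card (T ⊓ C : Subgroup G) := by
    apply Nat.card_le_card_of_injective
      (fun t : ψ.ker => (⟨((t : T) : G), ⟨(t : T).2, (hker t).1 t.2⟩⟩ : (T ⊓ C : Subgroup G)))
    intro a b h
    apply Subtype.ext
    apply Subtype.ext
    have h' : (((a : T) : G)) = ((b : T) : G) :=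
      congrArg (fun z : (T ⊓ C : Subgroup G) => (z : G)) h
    exact h'
  have hmul := Subgroup.card_mul_index ψ.ker
  rw [Subgroup.index_ker, hT4] at hmul
  have hkpos : 0 < Nat.card ψ.ker := Nat.card_pos
  have hr4 : Nat.card ψ.range = 4 := by
    have hk1 : Nat.card ψ.ker = 1 := by omega
    rw [hk1, one_mul] at hmul
    exact hmul
  have hcycR : IsCyclic ψ.range := Subgroup.isCyclic _
  obtain ⟨a, ha⟩ := hcycR.exists_generator
  have hoa : orderOf a = 4 := by
    rw [orderOf_eq_card_of_forall_mem_zpowers ha, hr4]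
  obtain ⟨a, t, rfl⟩ := a
  have hsq' : (⟨ψ t, ⟨t, rfl⟩⟩ : ψ.range) ^ 2 = 1 := by
    apply Subtype.ext
    show (ψ t) ^ 2 = 1
    rw [← map_pow, ← MonoidHom.mem_ker, hker, pow_two]
    have := hsq t t.2
    simp only [Subgroup.coe_mul]
    rw [this]
    exact Subgroup.one_mem _
  have := orderOf_dvd_of_pow_eq_one hsq'
  rw [hoa] at this
  norm_num at this

end general

section simple

variable {G : Type*} [Group G] [Finite G] [IsSimpleGroup G] {p : ℕ} [hp : Fact p.Prime]

/-- If the involution `u` is central in `N(P)` and the only divisors of `n_p` that are `≡ 1 mod p`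
are `1` and `n_p`, then `C(u) = N(P)`. -/
theorem centralizer_eq_normalizer (hnp : ¬ (Nat.card G).Prime) (P : Sylow p G)
    (hP : Nat.card (P : Subgroup G) = p)
    (hidx : ∀ j, j ∣ (Subgroup.normalizer ((P : Subgroup G) : Set G)).index → j % p = 1 →
      j = 1 ∨ j = (Subgroup.normalizer ((P : Subgroup G) : Set G)).index)
    (u : G) (hu : orderOf u = 2)
    (hNu : Subgroup.normalizer ((P : Subgroup G) : Set G) ≤ Subgroup.centralizer ({u} : Set G)) :
    Subgroup.centralizer ({u} : Set G) = Subgroup.normalizer ((P : Subgroup G) : Set G) := by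
  obtain ⟨x, hxP, hx1, hxp⟩ := exists_gen P hP
  set N := Subgroup.normalizer ((P : Subgroup G) : Set G) with hNdef
  set H := Subgroup.centralizer ({u} : Set G) with hHdef
  have hu1 : u ≠ 1 := by
    intro h; rw [h, orderOf_one] at hu; norm_num at hu
  have hHtop : H ≠ ⊤ := by
    intro h
    apply hu1
    apply eq_one_of_central hnp
    intro g
    have : g ∈ H := by rw [h]; trivial
    rw [hHdef, Subgroup.mem_centralizer_singleton_iff] at this
    exact this
  have hfix1 : Nat.card (fixedBy (G ⧸ H) x) = 1 :=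
    card_fixedBy_eq_one_of_le p P hP H hNu x hxP hx1
  have hmod := card_fixedBy_modEq_card (X := G ⧸ H) p x hxp
  rw [hfix1] at hmod
  have hdvd : H.index ∣ N.index := Subgroup.index_dvd_of_le hNu
  have hXH : Nat.card (G ⧸ H) = H.index := rfl
  unfold Nat.ModEq at hmod
  rw [hXH, Nat.mod_eq_of_lt hp.out.one_lt] at hmod
  rcases hidx _ hdvd hmod.symm with h | h
  · exact absurd (Subgroup.index_eq_one.1 h) hHtop
  · have h1 := H.card_mul_index
    have h2 := N.card_mul_index
    rw [h] at h1
    have hpos : 0 < N.index := Nat.pos_of_ne_zero (Subgroup.index_ne_zero_of_finite)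
    have h3 : Nat.card H = Nat.card N :=
      Nat.eq_of_mul_eq_mul_right hpos (h1.trans h2.symm)
    symm
    exact Subgroup.eq_of_le_of_card_ge hNu (by rw [h3])

/-- In a simple group of order `4 * m` (`m` odd, not abelian), every element of a subgroup of
order `4` squares to `1` (S0992: the Sylow `2`-subgroups are Klein four-groups). -/
theorem sq_eq_one_of_card_four (hnp : ¬ (Nat.card G).Prime) (m : ℕ) (hG : Nat.card G = 4 * m)
    (hm : ¬ 2 ∣ m) (T : Subgroup G) (hT : Nat.card T = 4) (t : G) (ht : t ∈ T) : t * t = 1 := by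
  have h2p : Fact (Nat.Prime 2) := ⟨by norm_num⟩
  have hG' : Nat.card G = 2 ^ 2 * m := by rw [hG]; norm_num
  obtain ⟨S, hS⟩ := exists_sylow_eq 2 2 m hG' hm T (by rw [hT]; norm_num)
  have hnc : ¬ IsMulCommutative G := by
    intro h
    let _ : CommGroup G := { (inferInstance : Group G) with mul_comm := h.is_comm.comm }
    exact hnp (IsSimpleGroup.prime_card (α := G))
  have heven : Even (Nat.card G) := by rw [hG]; exact ⟨2 * m, by ring⟩
  have h8 : ¬ 8 ∣ Nat.card G := by rw [hG]; omega
  obtain ⟨hK, -⟩ := Cfsg.Agent.S0992.result hnc heven h8 S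
  have htS : t ∈ (S : Subgroup G) := by rw [hS]; exact ht
  have h1 : (⟨t, htS⟩ : (S : Subgroup G)) ^ 2 = 1 := by
    have := Monoid.pow_exponent_eq_one (⟨t, htS⟩ : (S : Subgroup G))
    rwa [hK.exponent_two] at this
  have h2 : t ^ 2 = 1 := congrArg Subtype.val h1
  rw [← pow_two]; exact h2

end simple

end Cfsg.Agent.Lib.Helper5.OrdKit
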