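import Mathlib
import Cfsg.Agent.Lib.Helper5.Ord2.Kit2

/-!
# Generic toolkit, part 3: passing from `C(P)` to another prime

(author: helper5)
-/

set_option autoImplicit false

namespace Cfsg.Agent.Lib.Helper5.OrdKit

open MulAction
open Cfsg.Agent.Lib.Helper5.O5040

variable {G : Type*} [Group G] [Finite G]

/-- an element of prime order `q` (`q ∥ |G|`) generates a Sylow `q`-subgroup, whose centralizer
contains everything commuting with the element -/
theorem exists_sylow_of_orderOf {q : ℕ} [hq : Fact q.Prime] (m : ℕ) (hn : Nat.card G = q * m)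
    (hqm : ¬ q ∣ m) (c : G) (hc : orderOf c = q) :
    ∃ Q : Sylow q G, Nat.card (Q : Subgroup G) = q ∧ c ∈ (Q : Subgroup G) ∧
      ∀ x : G, c * x = x * c → x ∈ Subgroup.centralizer ((Q : Subgroup G) : Set G) := by
  have hZ : IsPGroup q (Subgroup.zpowers c) :=
    IsPGroup.of_card (n := 1) (by rw [Nat.card_zpowers, hc, pow_one])
  obtain ⟨Q, hQ⟩ := hZ.exists_le_sylow
  have hQc := card_sylow_prime m hn hqm Q
  have heq : Subgroup.zpowers c = (Q : Subgroup G) :=
    Subgroup.eq_of_le_of_card_ge hQ (by rw [hQc, Nat.card_zpowers, hc])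
  refine ⟨Q, hQc, hQ (Subgroup.mem_zpowers c), ?_⟩
  intro x hcomm
  rw [Subgroup.mem_centralizer_iff]
  intro a ha
  rw [← heq] at ha
  obtain ⟨j, rfl⟩ := Subgroup.mem_zpowers_iff.1 ha
  exact ((Commute.zpow_left (show Commute c x from hcomm) j)).eq

theorem orderOf_dvd_card_of_mem (H : Subgroup G) (x : G) (hx : x ∈ H) :
    orderOf x ∣ Nat.card H := by
  have := orderOf_dvd_natCard (⟨x, hx⟩ : H)
  rwa [Subgroup.orderOf_mk] at this

/-- if `q ∣ |C(P)|` (`|P| = p`, `q ∥ |G|`), there is a Sylow `q`-subgroup `Q` with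
`p ∣ |C(Q)|` -/
theorem exists_sylow_dvd_centralizer {p q : ℕ} [hp : Fact p.Prime] [hq : Fact q.Prime]
    (P : Sylow p G) (hP : Nat.card (P : Subgroup G) = p) (m : ℕ) (hn : Nat.card G = q * m)
    (hqm : ¬ q ∣ m)
    (hqC : q ∣ Nat.card (Subgroup.centralizer ((P : Subgroup G) : Set G))) :
    ∃ Q : Sylow q G, Nat.card (Q : Subgroup G) = q ∧
      p ∣ Nat.card (Subgroup.centralizer ((Q : Subgroup G) : Set G)) := by
  obtain ⟨c, hcC, hcq⟩ := exists_orderOf_of_dvd _ q hqC
  obtain ⟨x, hxP, hx1, hxp⟩ := exists_gen P hP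
  have hcomm : c * x = x * c := ((Subgroup.mem_centralizer_iff.1 hcC) x hxP).symm
  obtain ⟨Q, hQc, -, hQ⟩ := exists_sylow_of_orderOf m hn hqm c hcq
  refine ⟨Q, hQc, ?_⟩
  have hox : orderOf x = p := orderOf_eq_prime hxp hx1
  have := orderOf_dvd_card_of_mem _ x (hQ x hcomm)
  rwa [hox] at this

/-- index bound in the form used by the order files -/
theorem index_bound [IsSimpleGroup G] (h2G : 2 < Nat.card G) (H : Subgroup G) (hH : H ≠ ⊤)
    (j : ℕ) (hj : H.index = j) : 2 * Nat.card G ∣ j.factorial := by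
  have := Cfsg.Agent.Lib.Helper4.Simple.two_mul_card_dvd_factorial_of_simple h2G H hH
  rwa [hj] at this

end Cfsg.Agent.Lib.Helper5.OrdKit
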