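import Mathlib
import Cfsg.Agent.Lib.Helper5.Ord2.Kit3

/-!
# Generic toolkit, part 4: fixed points of a central involution of `N(P)` on `G ⧸ C(u)`

(author: helper5)
-/

set_option autoImplicit false

namespace Cfsg.Agent.Lib.Helper5.OrdKit

open MulAction
open Cfsg.Agent.Lib.Helper5.O5040

variable {G : Type*} [Group G] [Finite G] [IsSimpleGroup G] {p : ℕ} [hp : Fact p.Prime]

/-- For an involution `u ∈ C(P)` with `N(P) ≤ C(u)`: the number `f` of fixed points of `u` on
`G ⧸ C(u)` satisfies `f ≡ 1 mod p`, `f ≡ |G : C(u)| mod 4`, `f < |G : C(u)|`, `f < |C(u)|`. -/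
theorem fix_central (hnp : ¬ (Nat.card G).Prime) (h2G : 2 < Nat.card G) (P : Sylow p G)
    (hP : Nat.card (P : Subgroup G) = p) (u : G) (hu : orderOf u = 2)
    (huC : u ∈ Subgroup.centralizer ((P : Subgroup G) : Set G))
    (hNu : Subgroup.normalizer ((P : Subgroup G) : Set G) ≤ Subgroup.centralizer ({u} : Set G)) :
    Nat.card (fixedBy (G ⧸ Subgroup.centralizer ({u} : Set G)) u) % p = 1 ∧
    Nat.card (fixedBy (G ⧸ Subgroup.centralizer ({u} : Set G)) u) % 4 =
      (Subgroup.centralizer ({u} : Set G)).index % 4 ∧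
    Nat.card (fixedBy (G ⧸ Subgroup.centralizer ({u} : Set G)) u) <
      (Subgroup.centralizer ({u} : Set G)).index ∧
    Nat.card (fixedBy (G ⧸ Subgroup.centralizer ({u} : Set G)) u) <
      Nat.card (Subgroup.centralizer ({u} : Set G)) := by
  obtain ⟨x, hxP, hx1, hxp⟩ := exists_gen P hP
  set H := Subgroup.centralizer ({u} : Set G) with hHdef
  have hu1 : u ≠ 1 := by
    intro h; rw [h, orderOf_one] at hu; norm_num at hu
  have huu : u * u = 1 := by rw [← pow_two, ← hu]; exact pow_orderOf_eq_one u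
  have hHtop : H ≠ ⊤ := by
    intro h
    apply hu1
    apply eq_one_of_central hnp
    intro g
    have : g ∈ H := by rw [h]; trivial
    rw [hHdef, Subgroup.mem_centralizer_singleton_iff] at this
    exact this
  have hcomm : u * x = x * u := ((Subgroup.mem_centralizer_iff.1 huC) x hxP).symm
  have hfix1 : Nat.card (fixedBy (G ⧸ H) x) = 1 :=
    card_fixedBy_eq_one_of_le p P hP H hNu x hxP hx1
  have h1 := card_fixedBy_modEq_one (X := G ⧸ H) p x u hxp hcomm hfix1
  have h2 := card_mod_four_eq (X := G ⧸ H) h2G u huu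
  have h3 := card_fixedBy_le (X := G ⧸ H) u
  have h4 : Nat.card (fixedBy (G ⧸ H) u) ≠ Nat.card (G ⧸ H) :=
    fun h => hu1 (eq_one_of_card_fixedBy_eq H hHtop u h)
  unfold Nat.ModEq at h1
  rw [Nat.mod_eq_of_lt hp.out.one_lt] at h1
  have hidx : H.index = Nat.card (G ⧸ H) := rfl
  refine ⟨h1, ?_, ?_, card_fixedBy_lt_card_centralizer u hu1⟩
  · rw [hidx]; exact h2.symm
  · rw [hidx]; omega

end Cfsg.Agent.Lib.Helper5.OrdKit
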